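/-
helper83: modules S4719-[NUMA] and S4719-[NUMB] of helper79's project S4719 (sheet Lib/Helper79/S4719/SHEET4719.md), `_of` forms:
`two_pow_dvd_and_card_le_of` and `card_layer_le_of` take the evenness of `|L / Z(L)|` (Feit-Thompson) as a hypothesis;
the exact skeleton statements are in `Numa.lean` (imports FTKit).
-/
import Mathlib
import Cfsg.Prelude.Def_Local
import Cfsg.Agent.Lib.Helper21.Components

set_option autoImplicit false

namespace Cfsg.Agent.Lib.Helper83.S4719

open Cfsg

universe u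
variable {G : Type u} [Group G]

/-- product formula for two elementwise commuting subgroups -/
theorem card_sup_mul_card_inf [Finite G] (H L : Subgroup G)
    (hcomm : ∀ h ∈ H, ∀ l ∈ L, Commute h l) :
    Nat.card ↥(H ⊔ L) * Nat.card ↥(H ⊓ L) = Nat.card H * Nat.card L := by
  have hc : ∀ (m : ↥H) (n : ↥L), Commute (H.subtype m) (L.subtype n) :=
    fun h l => hcomm h h.2 l l.2
  let f : ↥H × ↥L →* G := MonoidHom.noncommCoprod H.subtype L.subtype hc
  have hf : ∀ x : ↥H × ↥L, f x = (x.1 : G) * (x.2 : G) := fun x => rfl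
  have hrange : f.range = H ⊔ L := by
    show (MonoidHom.noncommCoprod H.subtype L.subtype hc).range = H ⊔ L
    rw [MonoidHom.noncommCoprod_range, Subgroup.range_subtype, Subgroup.range_subtype]
  have hker : Nat.card f.ker = Nat.card ↥(H ⊓ L) := by
    apply Nat.card_congr
    refine
      { toFun := fun x => ⟨(x.1.1 : G), ⟨x.1.1.2, ?_⟩⟩
        invFun := fun y => ⟨(⟨y.1, y.2.1⟩, ⟨y.1⁻¹, L.inv_mem y.2.2⟩), ?_⟩
        left_inv := ?_
        right_inv := ?_ }
    · have h1 : f x.1 = 1 := x.2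
      rw [hf] at h1
      have h2 : (x.1.1 : G) = (x.1.2 : G)⁻¹ := eq_inv_of_mul_eq_one_left h1
      rw [h2]
      exact L.inv_mem x.1.2.2
    · rw [MonoidHom.mem_ker, hf]
      simp
    · intro x
      have h1 : f x.1 = 1 := x.2
      rw [hf] at h1
      have h2 : (x.1.2 : G) = (x.1.1 : G)⁻¹ := eq_inv_of_mul_eq_one_right h1
      apply Subtype.ext
      apply Prod.ext
      · rfl
      · apply Subtype.ext
        simp [h2]
    · intro y
      rfl
  have h1 : Nat.card f.ker * Nat.card f.range = Nat.card (↥H × ↥L) := by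
    rw [← Subgroup.index_ker f]
    exact Subgroup.card_mul_index f.ker
  rw [Nat.card_prod, hker, hrange] at h1
  rw [← h1, mul_comm]

/-- [NUMA] with the evenness of `|L / Z(L)|` as a hypothesis -/
theorem two_pow_dvd_and_card_le_of [Finite G]
    (heven : ∀ L : Subgroup G, IsComponent L → Even (Nat.card (↥L ⧸ Subgroup.center ↥L)))
    (𝒞 : Finset (Subgroup G))
    (h𝒞 : ∀ L ∈ 𝒞, IsComponent L) (ℓ : ℕ) (hℓ : ∀ L ∈ 𝒞, Nat.card L ≤ ℓ) :
    2 ^ 𝒞.card ∣ Nat.card ↥(𝒞.sup id) ∧ Nat.card ↥(𝒞.sup id) ≤ ℓ ^ 𝒞.card := by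
  classical
  induction 𝒞 using Finset.induction_on with
  | empty => simp
  | insert L 𝒞' hL ih =>
    have ih' := ih (fun K hK => h𝒞 K (Finset.mem_insert_of_mem hK))
      (fun K hK => hℓ K (Finset.mem_insert_of_mem hK))
    set H := 𝒞'.sup id with hH
    have hLc : IsComponent L := h𝒞 L (Finset.mem_insert_self _ _)
    have hHcent : H ≤ Subgroup.centralizer (L : Set G) := by
      apply Finset.sup_le
      intro K hK
      have hKc := h𝒞 K (Finset.mem_insert_of_mem hK)
      have hne : K ≠ L := fun h => hL (h ▸ hK)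
      have h1 := Cfsg.Agent.Lib.Helper21.component_commutator_eq_bot_of_ne hKc hLc hne
      exact Subgroup.commutator_eq_bot_iff_le_centralizer.mp h1
    have hcomm : ∀ h ∈ H, ∀ l ∈ L, Commute h l := by
      intro h hh l hl
      exact ((Subgroup.mem_centralizer_iff.mp (hHcent hh)) l hl).symm
    have hprod := card_sup_mul_card_inf H L hcomm
    set A : Subgroup ↥L := (H ⊓ L).subgroupOf L with hA
    have hAcard : Nat.card A = Nat.card ↥(H ⊓ L) :=
      Nat.card_congr (Subgroup.subgroupOfEquivOfLe inf_le_right).toEquiv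
    have hAr : Nat.card ↥(H ⊓ L) * A.index = Nat.card L := by
      rw [← hAcard]; exact Subgroup.card_mul_index A
    have hpos : 0 < Nat.card ↥(H ⊓ L) := Nat.card_pos
    have hsup : Nat.card ↥(H ⊔ L) = Nat.card H * A.index := by
      rw [← hAr] at hprod
      have h3 : Nat.card ↥(H ⊓ L) * Nat.card ↥(H ⊔ L) = Nat.card ↥(H ⊓ L) * (Nat.card H * A.index) := by
        rw [mul_comm, hprod]; ring
      exact Nat.eq_of_mul_eq_mul_left hpos h3
    have hAle : A ≤ Subgroup.center ↥L := by
      intro x hx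
      rw [Subgroup.mem_center_iff]
      intro y
      have hx' : (x : G) ∈ H := (Subgroup.mem_subgroupOf.mp hx).1
      have := hcomm _ hx' _ y.2
      exact Subtype.ext this.eq.symm
    have h2r : 2 ∣ A.index := by
      have h4 : (Subgroup.center ↥L).index ∣ A.index := Subgroup.index_dvd_of_le hAle
      have h5 : Even (Subgroup.center ↥L).index := by
        rw [Subgroup.index_eq_card]; exact heven L hLc
      exact (even_iff_two_dvd.mp h5).trans h4
    have hrle : A.index ≤ ℓ := by
      have h6 : A.index ∣ Nat.card L := Subgroup.index_dvd_card A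
      exact (Nat.le_of_dvd Nat.card_pos h6).trans (hℓ L (Finset.mem_insert_self _ _))
    rw [Finset.sup_insert, Finset.card_insert_of_notMem hL, id, sup_comm, hsup, pow_succ, pow_succ]
    exact ⟨Nat.mul_dvd_mul ih'.1 h2r, Nat.mul_le_mul ih'.2 hrle⟩


/-- [NUMB] with the evenness of `|L / Z(L)|` as a hypothesis -/
theorem card_layer_le_of [Finite G]
    (heven : ∀ L : Subgroup G, IsComponent L → Even (Nat.card (↥L ⧸ Subgroup.center ↥L)))
    (ℓ : ℕ) (hℓ0 : 0 < ℓ)
    (hℓ : ∀ L : Subgroup G, IsComponent L → Nat.card L ≤ ℓ) :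
    Nat.card (layer G) ≤ ℓ ^ (Nat.card G).factorization 2 := by
  classical
  set 𝒞 : Finset (Subgroup G) := (Set.toFinite {K : Subgroup G | IsComponent K}).toFinset with h𝒞
  have hmem : ∀ L, L ∈ 𝒞 ↔ IsComponent L := by
    intro L
    simp [h𝒞]
  have hsup : 𝒞.sup id = layer G := by
    unfold layer
    rw [Finset.sup_id_eq_sSup, Set.Finite.coe_toFinset]
  obtain ⟨h1, h2⟩ := two_pow_dvd_and_card_le_of heven 𝒞 (fun L hL => (hmem L).mp hL) ℓ
    (fun L hL => hℓ L ((hmem L).mp hL))
  rw [hsup] at h1 h2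
  have h3 : 2 ^ 𝒞.card ∣ Nat.card G := h1.trans (Subgroup.card_subgroup_dvd_card _)
  have h4 : 𝒞.card ≤ (Nat.card G).factorization 2 :=
    (Nat.Prime.pow_dvd_iff_le_factorization Nat.prime_two Nat.card_pos.ne').mp h3
  exact h2.trans (Nat.pow_le_pow_right hℓ0 h4)

end Cfsg.Agent.Lib.Helper83.S4719
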